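import Cfsg.Agent.H225.Co3.Tb
import Cfsg.Prelude.Def_ChevE7

/-!
# The table of `D₆` in `E₇` (S1920, helper225)

`β` = the highest root `125`; `sub7` = `±β` and the 60 roots orthogonal to `β`; `tD` : the natural representation of
`so₁₂` (basis `e_k = inl k`, `e_-k = inr k`), `tA` : the one of `sl₂`.
-/

set_option autoImplicit false

namespace Cfsg.Agent.H225.Co3

open Cfsg.Lie

/-- positions -/
def ix (n : ℕ) : Fin 6 ⊕ Fin 6 := if n < 6 then Sum.inl (Fin.ofNat 6 n) else Sum.inr (Fin.ofNat 6 (n - 6))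

/-- the dual position -/
def dl (n : ℕ) : ℕ := if n < 6 then n + 6 else n - 6

/-- row, column, sign of `e_r` -/
def ent7 : Array (ℕ × ℕ × ℤ) := #[(0, 0, 0), (0, 0, 0), (0, 0, 0), (0, 0, 0), (0, 0, 0), (0, 0, 0), (0, 0, 0), (0, 0, 0), (0, 0, 0), (0, 0, 0), (0, 0, 0), (0, 0, 0), (0, 0, 0), (0, 0, 0), (0, 0, 0), (0, 0, 0), (0, 0, 0), (0, 0, 0), (0, 0, 0), (0, 0, 0), (0, 0, 0), (0, 0, 0), (0, 0, 0), (0, 0, 0), (0, 0, 0), (0, 0, 0), (0, 0, 0), (0, 0, 0), (0, 0, 0), (0, 0, 0), (0, 0, 0), (0, 0, 0), (0, 0, 0), (7, 0, -1), (8, 0, -1), (8, 1, -1), (9, 0, -1), (9, 1, -1), (9, 2, -1), (10, 0, -1), (10, 1, -1), (10, 2, -1), (10, 3, -1), (11, 0, -1), (11, 1, -1), (11, 2, -1), (11, 3, -1), (11, 4, -1), (5, 0, 1), (5, 1, 1), (5, 2, 1), (5, 3, 1), (5, 4, 1), (4, 0, 1), (4, 1, 1), (4, 2, 1), (4, 3, 1), (3, 0, 1), (3, 1, 1), (3, 2, 1), (2, 0, 1), (2, 1, 1), (1, 0, 1), (0, 1, 1), (1,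 2, 1), (0, 2, 1), (2, 3, 1), (1, 3, 1), (0, 3, 1), (3, 4, 1), (2, 4, 1), (1, 4, 1), (0, 4, 1), (4, 5, 1), (3, 5, 1), (2, 5, 1), (1, 5, 1), (0, 5, 1), (5, 10, 1), (5, 9, 1), (5, 8, 1), (5, 7, 1), (5, 6, 1), (4, 9, 1), (4, 8, 1), (4, 7, 1), (4, 6, 1), (3, 8, 1), (3, 7, 1), (3, 6, 1), (2, 7, 1), (2, 6, 1), (1, 6, 1), (0, 0, 0), (0, 0, 0), (0, 0, 0), (0, 0, 0), (0, 0, 0), (0, 0, 0), (0, 0, 0), (0, 0, 0), (0, 0, 0), (0, 0, 0), (0, 0, 0), (0, 0, 0), (0, 0, 0), (0, 0, 0), (0, 0, 0), (0, 0, 0), (0, 0, 0), (0, 0, 0), (0, 0, 0), (0, 0, 0), (0, 0, 0), (0, 0, 0), (0, 0, 0), (0, 0, 0), (0, 0, 0), (0, 0, 0), (0, 0, 0), (0, 0, 0), (0, 0, 0), (0, 0, 0), (0, 0, 0), (0, 0, 0), (0, 0, 0)]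

/-- the matrix of `e_r` -/
def es7 (r : ℕ) : SM (Fin 6 ⊕ Fin 6) :=
  let e := ent7.getD r (0, 0, 0)
  if e.2.2 = 0 then [] else [(ix e.1, ix e.2.1, e.2.2), (ix (dl e.2.1), ix (dl e.1), -e.2.2)]

/-- the weights `2 ⟨e_k, α_i⟩` -/
def hd7 : Array (Array ℤ) := #[#[-1, -1, -1, -1, -1, 1], #[0, 0, 0, 0, 2, 2], #[0, 0, 0, 0, 2, -2], #[0, 0, 0, 2, -2, 0], #[0, 0, 2, -2, 0, 0], #[0, 2, -2, 0, 0, 0], #[2, -2, 0, 0, 0, 0]]

/-- twice the matrix of `h_i` -/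
def hs7 (i : ℕ) : SM (Fin 6 ⊕ Fin 6) :=
  (List.range 6).flatMap fun k => [(ix k, ix k, (hd7.getD i #[]).getD k 0), (ix (k + 6), ix (k + 6), -(hd7.getD i #[]).getD k 0)]

/-- the roots of `A₁ D₆` -/
def sub7 : List ℕ := [0, 33, 34, 35, 36, 37, 38, 39, 40, 41, 42, 43, 44, 45, 46, 47, 48, 49, 50, 51, 52, 53, 54, 55, 56, 57, 58, 59, 60, 61, 62, 63, 64, 65, 66, 67, 68, 69, 70, 71, 72, 73, 74, 75, 76, 77, 78, 79, 80, 81, 82, 83, 84, 85, 86, 87, 88, 89, 90, 91, 92, 125]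

/-- the table of `so₁₂` -/
def tD : Tb (Fin 6 ⊕ Fin 6) where
  inn := sub7
  es := es7
  hs := hs7

/-- the table of `sl₂` -/
def tA : Tb (Fin 2) where
  inn := sub7
  es r := if r = 125 then [(0, 1, 1)] else if r = 0 then [(1, 0, 1)] else []
  hs i := if i = 0 then [(0, 0, 1), (1, 1, -1)] else []

set_option maxRecDepth 100000

/-- splitting a check -/
theorem chunk {P : ℕ → Prop} {l : List ℕ} (n : ℕ) (h1 : ∀ r ∈ l.take n, P r) (h2 : ∀ r ∈ l.drop n, P r) : ∀ r ∈ l, P r := by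
  intro r hr
  rw [← List.take_append_drop n l] at hr
  rcases List.mem_append.1 hr with h | h
  · exact h1 r h
  · exact h2 r h

theorem pairD0 : ∀ r ∈ tD.inn.take 16, ∀ s ∈ tD.inn, s ≠ r → s ≠ chevE7.neg r → tD.pairOk chevE7 r s = true := by decide +kernel

theorem pairD1 : ∀ r ∈ (tD.inn.drop 16).take 16, ∀ s ∈ tD.inn, s ≠ r → s ≠ chevE7.neg r → tD.pairOk chevE7 r s = true := by decide +kernel

theorem pairD2 : ∀ r ∈ (tD.inn.drop 32).take 16, ∀ s ∈ tD.inn, s ≠ r → s ≠ chevE7.neg r → tD.pairOk chevE7 r s = true := by decide +kernel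

theorem pairD3 : ∀ r ∈ (tD.inn.drop 48).take 16, ∀ s ∈ tD.inn, s ≠ r → s ≠ chevE7.neg r → tD.pairOk chevE7 r s = true := by decide +kernel

theorem pairE3 : ∀ r ∈ (tD.inn.drop 48), ∀ s ∈ tD.inn, s ≠ r → s ≠ chevE7.neg r → tD.pairOk chevE7 r s = true := by
  intro r hr
  exact pairD3 r (by rwa [List.take_of_length_le (by decide)])

theorem pairE2 : ∀ r ∈ (tD.inn.drop 32), ∀ s ∈ tD.inn, s ≠ r → s ≠ chevE7.neg r → tD.pairOk chevE7 r s = true := by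
  refine chunk 16 pairD2 ?_
  rw [List.drop_drop]
  exact pairE3

theorem pairE1 : ∀ r ∈ (tD.inn.drop 16), ∀ s ∈ tD.inn, s ≠ r → s ≠ chevE7.neg r → tD.pairOk chevE7 r s = true := by
  refine chunk 16 pairD1 ?_
  rw [List.drop_drop]
  exact pairE2

theorem pairE0 : ∀ r ∈ tD.inn, ∀ s ∈ tD.inn, s ≠ r → s ≠ chevE7.neg r → tD.pairOk chevE7 r s = true := by
  refine chunk 16 pairD0 ?_
  exact pairE1

theorem oppD0 : ∀ r ∈ tD.inn.take 8, zr (tD.cs chevE7 r ++ scl 2 (Tb.com (tD.es r) (tD.es (chevE7.neg r)))) = true := by decide +kernel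

theorem oppD1 : ∀ r ∈ (tD.inn.drop 8).take 8, zr (tD.cs chevE7 r ++ scl 2 (Tb.com (tD.es r) (tD.es (chevE7.neg r)))) = true := by decide +kernel

theorem oppD2 : ∀ r ∈ (tD.inn.drop 16).take 8, zr (tD.cs chevE7 r ++ scl 2 (Tb.com (tD.es r) (tD.es (chevE7.neg r)))) = true := by decide +kernel

theorem oppD3 : ∀ r ∈ (tD.inn.drop 24).take 8, zr (tD.cs chevE7 r ++ scl 2 (Tb.com (tD.es r) (tD.es (chevE7.neg r)))) = true := by decide +kernel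

theorem oppD4 : ∀ r ∈ (tD.inn.drop 32).take 8, zr (tD.cs chevE7 r ++ scl 2 (Tb.com (tD.es r) (tD.es (chevE7.neg r)))) = true := by decide +kernel

theorem oppD5 : ∀ r ∈ (tD.inn.drop 40).take 8, zr (tD.cs chevE7 r ++ scl 2 (Tb.com (tD.es r) (tD.es (chevE7.neg r)))) = true := by decide +kernel

theorem oppD6 : ∀ r ∈ (tD.inn.drop 48).take 8, zr (tD.cs chevE7 r ++ scl 2 (Tb.com (tD.es r) (tD.es (chevE7.neg r)))) = true := by decide +kernel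

theorem oppD7 : ∀ r ∈ (tD.inn.drop 56).take 8, zr (tD.cs chevE7 r ++ scl 2 (Tb.com (tD.es r) (tD.es (chevE7.neg r)))) = true := by decide +kernel

theorem oppE7 : ∀ r ∈ (tD.inn.drop 56), zr (tD.cs chevE7 r ++ scl 2 (Tb.com (tD.es r) (tD.es (chevE7.neg r)))) = true := by
  intro r hr
  exact oppD7 r (by rwa [List.take_of_length_le (by decide)])

theorem oppE6 : ∀ r ∈ (tD.inn.drop 48), zr (tD.cs chevE7 r ++ scl 2 (Tb.com (tD.es r) (tD.es (chevE7.neg r)))) = true := by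
  refine chunk 8 oppD6 ?_
  rw [List.drop_drop]
  exact oppE7

theorem oppE5 : ∀ r ∈ (tD.inn.drop 40), zr (tD.cs chevE7 r ++ scl 2 (Tb.com (tD.es r) (tD.es (chevE7.neg r)))) = true := by
  refine chunk 8 oppD5 ?_
  rw [List.drop_drop]
  exact oppE6

theorem oppE4 : ∀ r ∈ (tD.inn.drop 32), zr (tD.cs chevE7 r ++ scl 2 (Tb.com (tD.es r) (tD.es (chevE7.neg r)))) = true := by
  refine chunk 8 oppD4 ?_
  rw [List.drop_drop]
  exact oppE5

theorem oppE3 : ∀ r ∈ (tD.inn.drop 24), zr (tD.cs chevE7 r ++ scl 2 (Tb.com (tD.es r) (tD.es (chevE7.neg r)))) = true := by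
  refine chunk 8 oppD3 ?_
  rw [List.drop_drop]
  exact oppE4

theorem oppE2 : ∀ r ∈ (tD.inn.drop 16), zr (tD.cs chevE7 r ++ scl 2 (Tb.com (tD.es r) (tD.es (chevE7.neg r)))) = true := by
  refine chunk 8 oppD2 ?_
  rw [List.drop_drop]
  exact oppE3

theorem oppE1 : ∀ r ∈ (tD.inn.drop 8), zr (tD.cs chevE7 r ++ scl 2 (Tb.com (tD.es r) (tD.es (chevE7.neg r)))) = true := by
  refine chunk 8 oppD1 ?_
  rw [List.drop_drop]
  exact oppE2

theorem oppE0 : ∀ r ∈ tD.inn, zr (tD.cs chevE7 r ++ scl 2 (Tb.com (tD.es r) (tD.es (chevE7.neg r)))) = true := by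
  refine chunk 8 oppD0 ?_
  exact oppE1

theorem okD : tD.Ok chevE7 where
  lt := by decide +kernel
  neg := by decide +kernel
  nd := by decide +kernel
  sq := by decide +kernel
  pair := pairE0
  opp := oppE0
  opp2 := by decide +kernel
  hh := by decide +kernel

theorem okA : tA.Ok chevE7 where
  lt := by decide +kernel
  neg := by decide +kernel
  nd := by decide +kernel
  sq := by decide +kernel
  pair := by decide +kernel
  opp := by decide +kernel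
  opp2 := by decide +kernel
  hh := by decide +kernel

/-- the exponents of the diagonal matrix of `∏ h_i(c_i)` on `so₁₂` -/
def exD : Array (Array ℤ) := #[#[0, 0, 0, 0, 0, 1, 1, 1, 1, 1, 1, 0], #[0, 0, 0, 0, 1, 1, 0, 0, 0, 0, -1, -1], #[0, 0, 0, 0, 1, -1, 0, 0, 0, 0, -1, 1], #[0, 0, 0, 1, -1, 0, 0, 0, 0, -1, 1, 0], #[0, 0, 1, -1, 0, 0, 0, 0, -1, 1, 0, 0], #[0, 1, -1, 0, 0, 0, 0, -1, 1, 0, 0, 0], #[0, -2, -1, -1, -1, -1, -2, 0, -1, -1, -1, -1]]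

/-- the exponent of `c_i` at the position `k` -/
def exk (i k : ℕ) : ℤ := (exD.getD i #[]).getD k 0

end Cfsg.Agent.H225.Co3
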