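import Cfsg.Agent.ChevalleyStructure.XColumns

/-!
# Representations of subsystem subalgebras by tables (S1920, helper225)

`D` simply laced, `T : Tb ι` : a set `inn` of roots (a closed subsystem), integer matrices `es r` (`r ∈ inn`) and `hs i`
(twice the matrix of `h_i`). `T.Ok D` : the table relations (decidable). `T.th` : the linear map `L → Mat_ι(F)` (twice the
representation), `Lp` : the subsystem subalgebra.

* `Tb.Ok.root` : `v ∈ Lp ⟹ x_r(t) v ∈ Lp` and `th (x_r(t) v) (1 + t E_r) = (1 + t E_r) th v`.
-/

set_option autoImplicit false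

namespace Cfsg.Agent.H225.Co3

open Cfsg.Lie Cfsg.Agent.ChevalleyStructure.XColumns
open scoped Matrix

universe u

/-- sparse integer matrices -/
abbrev SM (ι : Type) := List (ι × ι × ℤ)

section SM

variable {ι : Type} [DecidableEq ι]

/-- the entry -/
def sent (L : SM ι) (i j : ι) : ℤ := (L.map fun e => if e.1 = i then (if e.2.1 = j then e.2.2 else 0) else 0).sum

/-- all entries vanish -/
def zr (L : SM ι) : Bool := L.all fun e => sent L e.1 e.2.1 == 0

/-- scaling -/
def scl (c : ℤ) (L : SM ι) : SM ι := L.map fun e => (e.1, e.2.1, c * e.2.2)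

/-- the product -/
def smul' (A B : SM ι) : SM ι :=
  A.flatMap fun a => (B.filter fun b => a.2.1 = b.1).map fun b => (a.1, b.2.1, a.2.2 * b.2.2)

theorem sent_nil (i j : ι) : sent ([] : SM ι) i j = 0 := rfl

theorem sent_cons (e : ι × ι × ℤ) (L : SM ι) (i j : ι) :
    sent (e :: L) i j = (if e.1 = i then (if e.2.1 = j then e.2.2 else 0) else 0) + sent L i j := by
  unfold sent
  rw [List.map_cons, List.sum_cons]

theorem sent_append (A B : SM ι) (i j : ι) : sent (A ++ B) i j = sent A i j + sent B i j := by
  unfold sent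
  rw [List.map_append, List.sum_append]

theorem sent_scl (c : ℤ) (A : SM ι) (i j : ι) : sent (scl c A) i j = c * sent A i j := by
  induction A with
  | nil => simp [scl, sent_nil]
  | cons e A ih =>
    have h1 : scl c (e :: A) = (e.1, e.2.1, c * e.2.2) :: scl c A := rfl
    rw [h1, sent_cons, sent_cons, ih, mul_add]
    congr 1
    split_ifs <;> simp

theorem sent_of_zr {L : SM ι} (h : zr L = true) (i j : ι) : sent L i j = 0 := by
  by_contra hne
  have : ∃ e ∈ L, e.1 = i ∧ e.2.1 = j := by
    by_contra hno
    apply hne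
    unfold sent
    refine List.sum_eq_zero fun x hx => ?_
    obtain ⟨e, he, rfl⟩ := List.mem_map.1 hx
    by_cases h1 : e.1 = i
    · by_cases h2 : e.2.1 = j
      · exact absurd ⟨e, he, h1, h2⟩ hno
      · rw [if_pos h1, if_neg h2]
    · rw [if_neg h1]
  obtain ⟨e, he, rfl, rfl⟩ := this
  have h1 := List.all_eq_true.1 h e he
  exact hne (by simpa using h1)

variable (F : Type u) [Field F]

/-- the matrix -/
def mat (L : SM ι) : Matrix ι ι F := Matrix.of fun i j => ((sent L i j : ℤ) : F)

theorem mat_apply (L : SM ι) (i j : ι) : mat F L i j = ((sent L i j : ℤ) : F) := rfl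

theorem mat_nil : mat F ([] : SM ι) = 0 := by
  ext i j
  rw [mat_apply, sent_nil, Int.cast_zero, Matrix.zero_apply]

theorem mat_append (A B : SM ι) : mat F (A ++ B) = mat F A + mat F B := by
  ext i j
  rw [Matrix.add_apply, mat_apply, mat_apply, mat_apply, sent_append, Int.cast_add]

theorem mat_scl (c : ℤ) (A : SM ι) : mat F (scl c A) = (c : F) • mat F A := by
  ext i j
  rw [Matrix.smul_apply, mat_apply, mat_apply, sent_scl, Int.cast_mul, smul_eq_mul]

theorem mat_zr {L : SM ι} (h : zr L = true) : mat F L = 0 := by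
  ext i j
  rw [mat_apply, sent_of_zr h, Int.cast_zero, Matrix.zero_apply]

theorem sent_smul' [Fintype ι] (A B : SM ι) (i j : ι) : sent (smul' A B) i j = ∑ k, sent A i k * sent B k j := by
  induction A with
  | nil =>
    have : smul' ([] : SM ι) B = [] := rfl
    rw [this, sent_nil]
    simp [sent_nil]
  | cons a A ih =>
    have h1 : smul' (a :: A) B = ((B.filter fun b => a.2.1 = b.1).map fun b => (a.1, b.2.1, a.2.2 * b.2.2)) ++ smul' A B := by
      unfold smul'
      rw [List.flatMap_cons]
    have h2 : ∀ B : SM ι, sent ((B.filter fun b => a.2.1 = b.1).map fun b => (a.1, b.2.1, a.2.2 * b.2.2)) i j =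
        if a.1 = i then a.2.2 * sent B a.2.1 j else 0 := by
      intro B
      induction B with
      | nil => simp [sent_nil]
      | cons b B ih2 =>
        by_cases h3 : a.2.1 = b.1
        · rw [List.filter_cons_of_pos (by simpa using h3), List.map_cons, sent_cons, ih2, sent_cons]
          simp only
          by_cases h4 : a.1 = i
          · rw [if_pos h4, if_pos h4, if_pos h4, if_pos h3.symm, mul_add]
            congr 1
            split_ifs <;> simp
          · rw [if_neg h4, if_neg h4, if_neg h4, add_zero]
        · rw [List.filter_cons_of_neg (by simpa using h3), ih2, sent_cons, if_neg (Ne.symm h3), zero_add]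
    rw [h1, sent_append, ih, h2]
    simp_rw [sent_cons, add_mul]
    rw [Finset.sum_add_distrib]
    congr 1
    by_cases h4 : a.1 = i
    · simp only [if_pos h4, ite_mul, zero_mul]
      rw [Finset.sum_ite_eq Finset.univ a.2.1 fun k => a.2.2 * sent B k j, if_pos (Finset.mem_univ _)]
    · simp only [if_neg h4, zero_mul, Finset.sum_const_zero]

theorem mat_smul' [Fintype ι] (A B : SM ι) : mat F (smul' A B) = mat F A * mat F B := by
  ext i j
  rw [mat_apply, sent_smul', Matrix.mul_apply, Int.cast_sum]
  refine Finset.sum_congr rfl fun k _ => ?_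
  rw [Int.cast_mul, mat_apply, mat_apply]

end SM

/-- a table -/
structure Tb (ι : Type) where
  inn : List ℕ
  es : ℕ → SM ι
  hs : ℕ → SM ι

namespace Tb

variable {ι : Type} [DecidableEq ι]

/-- twice the matrix of the coroot `h_r` -/
def cs (T : Tb ι) (D : ChevalleyDatum) (r : ℕ) : SM ι :=
  (List.range D.rank).flatMap fun i => scl ((D.coroot.getD r #[]).getD i 0) (T.hs i)

/-- the commutator `B A - A B` -/
def com (A B : SM ι) : SM ι := smul' B A ++ scl (-1) (smul' A B)

/-- the check for a pair of roots -/
def pairOk (T : Tb ι) (D : ChevalleyDatum) (r s : ℕ) : Bool :=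
  match D.chainEntry r s with
  | [] => zr (com (T.es r) (T.es s))
  | [(u, N)] => T.inn.contains u && zr (scl N (T.es u) ++ com (T.es r) (T.es s)) && zr (scl N (smul' (T.es u) (T.es r)))
  | _ => false

/-- the table conditions -/
structure Ok (T : Tb ι) (D : ChevalleyDatum) : Prop where
  lt : ∀ r ∈ T.inn, r < D.nroots
  neg : ∀ r ∈ T.inn, D.neg r ∈ T.inn ∧ D.neg r ≠ r
  nd : ∀ r ∈ T.inn, ((row D r).map Prod.fst).Nodup
  sq : ∀ r ∈ T.inn, zr (smul' (T.es r) (T.es r)) = true
  pair : ∀ r ∈ T.inn, ∀ s ∈ T.inn, s ≠ r → s ≠ D.neg r → T.pairOk D r s = true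
  opp : ∀ r ∈ T.inn, zr (T.cs D r ++ scl 2 (com (T.es r) (T.es (D.neg r)))) = true
  opp2 : ∀ r ∈ T.inn, zr (smul' (T.cs D r) (T.es r) ++ scl (-2) (T.es r)) = true
  hh : ∀ r ∈ T.inn, ∀ i < D.rank, zr (com (T.es r) (T.hs i) ++ scl (-2 * D.cartan i r) (T.es r)) = true

variable (T : Tb ι) (D : ChevalleyDatum) (F : Type u) [Field F]

/-- the linear map (twice the representation) -/
noncomputable def th : (D.Idx → F) →ₗ[F] Matrix ι ι F where
  toFun v := (∑ s : Fin D.nroots, v (Sum.inr s) • ((2 : F) • mat F (T.es s))) + ∑ i : Fin D.rank, v (Sum.inl i) • mat F (T.hs i)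
  map_add' v w := by
    simp only [Pi.add_apply, add_smul, Finset.sum_add_distrib]
    abel
  map_smul' c v := by
    simp only [Pi.smul_apply, smul_eq_mul, mul_smul, Finset.smul_sum, smul_add, RingHom.id_apply]

/-- the matrix of a root vector -/
def E (r : ℕ) : Matrix ι ι F := mat F (T.es r)

/-- the subalgebra -/
noncomputable def Lp : Submodule F (D.Idx → F) :=
  Submodule.span F ({v | ∃ s ∈ T.inn, v = ev D F s} ∪ {v | ∃ i < D.rank, v = hv D F i})

variable {T D F}

theorem th_ev {s : ℕ} (hs : s < D.nroots) : T.th D F (ev D F s) = (2 : F) • T.E F s := by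
  show (∑ s' : Fin D.nroots, ev D F s (Sum.inr s') • ((2 : F) • mat F (T.es s'))) +
    ∑ i : Fin D.rank, ev D F s (Sum.inl i) • mat F (T.hs i) = _
  rw [Finset.sum_eq_single (⟨s, hs⟩ : Fin D.nroots)]
  · simp [E]
  · intro b _ hb
    rw [ev_inr, if_neg (fun h => hb (Fin.ext h)), zero_smul]
  · intro h
    exact absurd (Finset.mem_univ _) h

theorem th_hv {i : ℕ} (hi : i < D.rank) : T.th D F (hv D F i) = mat F (T.hs i) := by
  show (∑ s' : Fin D.nroots, hv D F i (Sum.inr s') • ((2 : F) • mat F (T.es s'))) +
    ∑ i' : Fin D.rank, hv D F i (Sum.inl i') • mat F (T.hs i') = _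
  rw [Finset.sum_eq_single (s := (Finset.univ : Finset (Fin D.rank))) (⟨i, hi⟩ : Fin D.rank)]
  · simp
  · intro b _ hb
    rw [hv_inl, if_neg (fun h => hb (Fin.ext h)), zero_smul]
  · intro h
    exact absurd (Finset.mem_univ _) h

theorem mat_flatMap (l : List ℕ) (f : ℕ → SM ι) : mat F (l.flatMap f) = (l.map fun i => mat F (f i)).sum := by
  induction l with
  | nil => rw [List.flatMap_nil, mat_nil, List.map_nil, List.sum_nil]
  | cons a l ih => rw [List.flatMap_cons, mat_append, ih, List.map_cons, List.sum_cons]

theorem sum_range_list {A : Type*} [AddCommMonoid A] (n : ℕ) (f : ℕ → A) :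
    ((List.range n).map f).sum = ∑ i : Fin n, f i := by
  induction n with
  | zero => simp
  | succ n ih =>
    rw [List.range_succ, List.map_append, List.sum_append, ih, Fin.sum_univ_castSucc]
    simp

theorem th_corv (r : ℕ) : T.th D F (corv D F r) = mat F (T.cs D r) := by
  show (∑ s' : Fin D.nroots, corv D F r (Sum.inr s') • ((2 : F) • mat F (T.es s'))) +
    ∑ i' : Fin D.rank, corv D F r (Sum.inl i') • mat F (T.hs i') = _
  simp only [corv_inr, zero_smul, Finset.sum_const_zero, zero_add, corv_inl]
  unfold cs
  rw [mat_flatMap, sum_range_list]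
  exact Finset.sum_congr rfl fun i _ => (mat_scl F _ _).symm

omit [DecidableEq ι] in
theorem ev_mem_Lp {s : ℕ} (hs : s ∈ T.inn) : ev D F s ∈ T.Lp D F := Submodule.subset_span (Or.inl ⟨s, hs, rfl⟩)

omit [DecidableEq ι] in
theorem hv_mem_Lp {i : ℕ} (hi : i < D.rank) : hv D F i ∈ T.Lp D F := Submodule.subset_span (Or.inr ⟨i, hi, rfl⟩)

omit [DecidableEq ι] in
theorem corv_mem_Lp (r : ℕ) : corv D F r ∈ T.Lp D F := by
  have h1 : corv D F r = ∑ i : Fin D.rank, (((D.coroot.getD r #[]).getD i.val 0 : ℤ) : F) • hv D F i := by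
    funext a
    rw [Finset.sum_apply]
    rcases a with i | v
    · rw [Finset.sum_eq_single i]
      · simp
      · intro b _ hb
        rw [Pi.smul_apply, hv_inl, if_neg (fun h => hb (Fin.ext h.symm)), smul_zero]
      · intro h
        exact absurd (Finset.mem_univ _) h
    · simp
  rw [h1]
  exact Submodule.sum_mem _ fun i _ => Submodule.smul_mem _ _ (hv_mem_Lp i.2)

/-- **The root elements.** -/
theorem Ok.root [Fintype ι] (O : T.Ok D) {r : ℕ} (hr : r ∈ T.inn) (t : F) {v : D.Idx → F} (hv' : v ∈ T.Lp D F) :
    D.x F r t *ᵥ v ∈ T.Lp D F ∧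
      T.th D F (D.x F r t *ᵥ v) * (1 + t • T.E F r) = (1 + t • T.E F r) * T.th D F v := by
  have hrl := O.lt r hr
  obtain ⟨hn, hne⟩ := O.neg r hr
  have hE2 : T.E F r * T.E F r = 0 := by
    unfold E
    rw [← mat_smul']
    exact mat_zr F (O.sq r hr)
  refine Submodule.span_induction (p := fun v _ => D.x F r t *ᵥ v ∈ T.Lp D F ∧
    T.th D F (D.x F r t *ᵥ v) * (1 + t • T.E F r) = (1 + t • T.E F r) * T.th D F v) ?_ ?_ ?_ ?_ hv'
  · rintro v (⟨s, hs, rfl⟩ | ⟨i, hi, rfl⟩)
    · have hsl := O.lt s hs
      by_cases h1 : s = r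
      · subst h1
        rw [x_mulVec_ev_self hsl]
        refine ⟨ev_mem_Lp hs, ?_⟩
        rw [th_ev hsl, mul_add, add_mul, mul_one, one_mul, smul_mul_assoc, mul_smul_comm, smul_mul_assoc, mul_smul_comm]
        module
      · by_cases h2 : s = D.neg r
        · subst h2
          rw [x_mulVec_ev_neg hrl hsl hne]
          refine ⟨Submodule.sub_mem _ (Submodule.add_mem _ (ev_mem_Lp hs) (Submodule.smul_mem _ _ (corv_mem_Lp r)))
            (Submodule.smul_mem _ _ (ev_mem_Lp hr)), ?_⟩
          have h3 := mat_zr F (O.opp r hr)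
          have h4 := mat_zr F (O.opp2 r hr)
          rw [mat_append, mat_scl, com, mat_append, mat_scl, mat_smul', mat_smul'] at h3
          rw [mat_append, mat_scl, mat_smul'] at h4
          rw [map_sub, map_add, map_smul, map_smul, th_ev hsl, th_ev hrl, th_corv]
          push_cast at h3 h4
          have h5 : mat F (T.cs D r) = (2 : F) • (T.E F r * T.E F (D.neg r)) - (2 : F) • (T.E F (D.neg r) * T.E F r) := by
            have h6 := eq_neg_of_add_eq_zero_left h3
            rw [h6]
            unfold E
            module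
          have h6 : mat F (T.cs D r) * T.E F r = (2 : F) • T.E F r := by
            have h7 := eq_neg_of_add_eq_zero_left h4
            unfold E
            rw [h7]
            module
          have e1 : ((2 : F) • T.E F (D.neg r) + t • mat F (T.cs D r) - t ^ 2 • (2 : F) • T.E F r) * (1 + t • T.E F r) =
              (2 : F) • T.E F (D.neg r) + t • (mat F (T.cs D r) + (2 : F) • (T.E F (D.neg r) * T.E F r)) +
                (t ^ 2) • (mat F (T.cs D r) * T.E F r - (2 : F) • T.E F r) - (2 * t ^ 3) • (T.E F r * T.E F r) := by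
            rw [mul_add, mul_one, mul_smul_comm, sub_mul, add_mul, smul_mul_assoc, smul_mul_assoc, smul_mul_assoc,
              smul_mul_assoc]
            module
          rw [e1, h6, sub_self, smul_zero, hE2, smul_zero, h5, add_mul, one_mul, smul_mul_assoc, mul_smul_comm]
          module
        · rw [x_mulVec_ev hrl hsl h1 h2 (O.nd r hr)]
          have h3 := O.pair r hr s hs h1 h2
          unfold pairOk at h3
          split at h3
          · rename_i he
            rw [he]
            simp only [List.zipIdx_nil, List.map_nil, List.sum_nil, add_zero]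
            refine ⟨ev_mem_Lp hs, ?_⟩
            have h4 := mat_zr F h3
            rw [com, mat_append, mat_scl, mat_smul', mat_smul'] at h4
            push_cast at h4
            have h5 : T.E F s * T.E F r = T.E F r * T.E F s := by
              have h6 := eq_neg_of_add_eq_zero_left h4
              unfold E
              rw [h6]
              module
            rw [th_ev hsl, mul_add, add_mul, mul_one, one_mul, smul_mul_assoc, mul_smul_comm, smul_mul_assoc,
              mul_smul_comm, h5]
            module
          · rename_i u N he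
            rw [he]
            simp only [List.zipIdx_cons, List.zipIdx_nil, List.map_cons, List.map_nil, List.sum_cons, List.sum_nil,
              add_zero, zero_add, pow_one]
            rw [Bool.and_eq_true, Bool.and_eq_true, List.contains_iff_mem] at h3
            obtain ⟨⟨h4, h5⟩, h6⟩ := h3
            have hul := O.lt u h4
            refine ⟨Submodule.add_mem _ (ev_mem_Lp hs) (Submodule.smul_mem _ _ (ev_mem_Lp h4)), ?_⟩
            have h7 := mat_zr F h5
            have h8 := mat_zr F h6
            rw [com, mat_append, mat_scl, mat_append, mat_scl, mat_smul', mat_smul'] at h7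
            rw [mat_scl, mat_smul'] at h8
            push_cast at h7
            have h9 : (N : F) • T.E F u = T.E F r * T.E F s - T.E F s * T.E F r := by
              have h10 := eq_neg_of_add_eq_zero_left h7
              unfold E
              rw [h10]
              module
            have h10 : (N : F) • (T.E F u * T.E F r) = 0 := h8
            rw [map_add, map_smul, th_ev hsl, th_ev hul]
            have e1 : ((2 : F) • T.E F s + ((N : F) * t) • (2 : F) • T.E F u) * (1 + t • T.E F r) =
                (2 : F) • T.E F s + (2 * t) • ((N : F) • T.E F u) + (2 * t) • (T.E F s * T.E F r) +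
                  (2 * t ^ 2) • ((N : F) • (T.E F u * T.E F r)) := by
              rw [mul_add, mul_one, mul_smul_comm, add_mul, smul_mul_assoc, smul_mul_assoc, smul_mul_assoc]
              module
            rw [e1, h9, h10, smul_zero, add_mul, one_mul, smul_mul_assoc, mul_smul_comm]
            module
          · exact absurd h3 (by simp)
    · rw [x_mulVec_hv hrl hi]
      refine ⟨Submodule.sub_mem _ (hv_mem_Lp hi) (Submodule.smul_mem _ _ (ev_mem_Lp hr)), ?_⟩
      have h3 := mat_zr F (O.hh r hr i hi)
      rw [com, mat_append, mat_scl, mat_append, mat_scl, mat_smul', mat_smul'] at h3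
      push_cast at h3
      have h4 : mat F (T.hs i) * T.E F r = T.E F r * mat F (T.hs i) + (2 * (D.cartan i r : F)) • T.E F r := by
        have h5 := eq_neg_of_add_eq_zero_left h3
        unfold E
        have h6 : mat F (T.hs i) * mat F (T.es r) =
            (mat F (T.hs i) * mat F (T.es r) + (-1 : F) • (mat F (T.es r) * mat F (T.hs i))) +
              mat F (T.es r) * mat F (T.hs i) := by module
        rw [h6, h5]
        module
      rw [map_sub, map_smul, th_hv hi, th_ev hrl]
      have e1 : (mat F (T.hs i) - ((D.cartan i r : F) * t) • (2 : F) • T.E F r) * (1 + t • T.E F r) =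
          mat F (T.hs i) + t • (mat F (T.hs i) * T.E F r) - (2 * (D.cartan i r : F) * t) • T.E F r -
            (2 * (D.cartan i r : F) * t ^ 2) • (T.E F r * T.E F r) := by
        rw [mul_add, mul_one, mul_smul_comm, sub_mul, smul_mul_assoc, smul_mul_assoc]
        module
      rw [e1, h4, hE2, smul_zero, add_mul, one_mul, smul_mul_assoc]
      module
  · rw [Matrix.mulVec_zero]
    exact ⟨Submodule.zero_mem _, by rw [map_zero, zero_mul, mul_zero]⟩
  · rintro v w - - ⟨h1, h2⟩ ⟨h3, h4⟩
    rw [Matrix.mulVec_add]
    exact ⟨Submodule.add_mem _ h1 h3, by rw [map_add, map_add, add_mul, h2, h4, mul_add]⟩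
  · rintro c v - ⟨h1, h2⟩
    rw [Matrix.mulVec_smul]
    exact ⟨Submodule.smul_mem _ _ h1, by rw [map_smul, map_smul, smul_mul_assoc, mul_smul_comm, h2]⟩

end Tb

end Cfsg.Agent.H225.Co3
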